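import Cfsg.Agent.H234.SN.Base

/-!
# Explicit pairs over the field with three elements (helper234, S3831 E4; generated by a program)

Every case: an isometry (similitude) `g` given by its matrix in a frame with Gram matrix `G` (or in a totally singular
frame), an element `k` of `E Q` with `⟨g, g ^ k⟩` not solvable.
-/

set_option autoImplicit false
set_option maxRecDepth 100000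
set_option linter.unusedVariables false

namespace Cfsg.Agent.H234.SN

open QuadraticMap Matrix
open Cfsg.Agent.LieClassical.OrthCore

/-! ### case CG -/

namespace CG

/-- Gram matrix -/
def G : Matrix (Fin 6) (Fin 6) (ZMod 3) := !![0, 0, 0, 2, 0, 0; 0, 0, 1, 0, 0, 0; 0, 1, 0, 0, 0, 0; 2, 0, 0, 0, 0, 0; 0, 0, 0, 0, 1, 0; 0, 0, 0, 0, 0, 1]

def G' : Matrix (Fin 6) (Fin 6) (ZMod 3) := !![0, 0, 0, 2, 0, 0; 0, 0, 1, 0, 0, 0; 0, 1, 0, 0, 0, 0; 2, 0, 0, 0, 0, 0; 0, 0, 0, 0, 1, 0; 0, 0, 0, 0, 0, 1]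

theorem hG : G * G' = 1 := by decide

/-- the isometry -/
def g : (Matrix (Fin 6) (Fin 6) (ZMod 3))ˣ :=
  ⟨!![0, 2, 0, 0, 0, 0; 1, 0, 0, 0, 0, 0; 0, 2, 0, 2, 0, 0; 1, 0, 1, 0, 0, 0; 0, 0, 0, 0, 0, 2; 0, 0, 0, 0, 1, 0], !![0, 1, 0, 0, 0, 0; 2, 0, 0, 0, 0, 0; 0, 2, 0, 1, 0, 0; 1, 0, 2, 0, 0, 0; 0, 0, 0, 0, 0, 1; 0, 0, 0, 0, 2, 0], by decide, by decide⟩

def k1 : (Matrix (Fin 6) (Fin 6) (ZMod 3))ˣ :=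
  ⟨!![1, 1, 0, 2, 0, 2; 0, 1, 0, 0, 0, 0; 0, 1, 1, 2, 0, 2; 0, 0, 0, 1, 0, 0; 0, 0, 0, 0, 1, 0; 0, 1, 0, 2, 0, 1], !![1, 1, 0, 2, 0, 1; 0, 1, 0, 0, 0, 0; 0, 1, 1, 2, 0, 1; 0, 0, 0, 1, 0, 0; 0, 0, 0, 0, 1, 0; 0, 2, 0, 1, 0, 1], by decide, by decide⟩

def k : (Matrix (Fin 6) (Fin 6) (ZMod 3))ˣ := k1

def y : (Matrix (Fin 6) (Fin 6) (ZMod 3))ˣ :=
  ⟨!![0, 1, 2, 1, 2, 2; 1, 1, 0, 2, 0, 1; 0, 1, 2, 0, 2, 2; 1, 2, 1, 1, 0, 2; 0, 1, 0, 2, 0, 2; 0, 2, 2, 1, 1, 2], !![1, 0, 1, 1, 1, 2; 2, 2, 0, 1, 0, 2; 1, 1, 1, 2, 1, 2; 1, 0, 2, 0, 0, 0; 0, 2, 0, 1, 0, 1; 1, 2, 1, 1, 2, 2], by decide, by decide⟩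

theorem hy : k * g * k⁻¹ = y := by
  rw [mul_inv_eq_iff_eq_mul]
  exact Units.ext (by decide)

def al1 : (Matrix (Fin 6) (Fin 6) (ZMod 3))ˣ :=
  ⟨!![0, 2, 0, 0, 0, 0; 1, 0, 0, 0, 0, 0; 0, 2, 0, 2, 0, 0; 1, 0, 1, 0, 0, 0; 0, 0, 0, 0, 0, 2; 0, 0, 0, 0, 1, 0], !![0, 1, 0, 0, 0, 0; 2, 0, 0, 0, 0, 0; 0, 2, 0, 1, 0, 0; 1, 0, 2, 0, 0, 0; 0, 0, 0, 0, 0, 1; 0, 0, 0, 0, 2, 0], by decide, by decide⟩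

theorem al1_mem {H : Subgroup (Matrix (Fin 6) (Fin 6) (ZMod 3))ˣ} (hg : g ∈ H) (hy : y ∈ H) : al1 ∈ H := by
  rw [show al1 = g from Units.ext (by decide)]
  exact hg

def al : (Matrix (Fin 6) (Fin 6) (ZMod 3))ˣ :=
  ⟨!![2, 2, 0, 1, 0, 2; 0, 1, 2, 1, 2, 2; 1, 0, 2, 0, 0, 0; 0, 2, 1, 1, 1, 1; 0, 1, 1, 2, 2, 1; 0, 1, 0, 2, 0, 2], !![1, 0, 2, 1, 1, 1; 2, 2, 2, 0, 1, 0; 1, 0, 1, 1, 1, 1; 0, 2, 0, 2, 0, 0; 2, 0, 2, 0, 2, 0; 2, 0, 2, 1, 1, 2], by decide, by decide⟩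

theorem al_mem {H : Subgroup (Matrix (Fin 6) (Fin 6) (ZMod 3))ˣ} (hg : g ∈ H) (hy : y ∈ H) : al ∈ H := by
  rw [show al = al1 * y from Units.ext (by decide)]
  exact mul_mem (al1_mem hg hy) hy

def be1 : (Matrix (Fin 6) (Fin 6) (ZMod 3))ˣ :=
  ⟨!![0, 2, 0, 0, 0, 0; 1, 0, 0, 0, 0, 0; 0, 2, 0, 2, 0, 0; 1, 0, 1, 0, 0, 0; 0, 0, 0, 0, 0, 2; 0, 0, 0, 0, 1, 0], !![0, 1, 0, 0, 0, 0; 2, 0, 0, 0, 0, 0; 0, 2, 0, 1, 0, 0; 1, 0, 2, 0, 0, 0; 0, 0, 0, 0, 0, 1; 0, 0, 0, 0, 2, 0], by decide, by decide⟩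

theorem be1_mem {H : Subgroup (Matrix (Fin 6) (Fin 6) (ZMod 3))ˣ} (hg : g ∈ H) (hy : y ∈ H) : be1 ∈ H := by
  rw [show be1 = g from Units.ext (by decide)]
  exact hg

def be2 : (Matrix (Fin 6) (Fin 6) (ZMod 3))ˣ :=
  ⟨!![1, 1, 0, 2, 0, 1; 1, 0, 1, 1, 1, 2; 0, 1, 1, 2, 0, 1; 2, 1, 2, 0, 2, 1; 2, 1, 2, 2, 1, 1; 0, 2, 0, 1, 0, 1], !![0, 1, 2, 2, 1, 2; 1, 1, 1, 0, 2, 0; 2, 1, 0, 2, 1, 2; 2, 0, 2, 1, 1, 0; 1, 0, 1, 0, 1, 0; 2, 1, 2, 2, 1, 1], by decide, by decide⟩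

theorem be2_mem {H : Subgroup (Matrix (Fin 6) (Fin 6) (ZMod 3))ˣ} (hg : g ∈ H) (hy : y ∈ H) : be2 ∈ H := by
  rw [show be2 = be1 * y⁻¹ from eq_mul_inv_of_mul_eq (Units.ext (by decide))]
  exact mul_mem (be1_mem hg hy) (inv_mem hy)

def be3 : (Matrix (Fin 6) (Fin 6) (ZMod 3))ˣ :=
  ⟨!![0, 2, 2, 0, 1, 0; 1, 1, 1, 2, 2, 2; 0, 2, 2, 2, 1, 0; 1, 2, 0, 1, 1, 1; 0, 2, 2, 1, 1, 2; 0, 0, 1, 0, 1, 0], !![1, 1, 1, 0, 2, 0; 0, 2, 1, 1, 2, 1; 1, 2, 1, 1, 2, 0; 1, 0, 2, 0, 0, 0; 2, 1, 2, 2, 1, 1; 2, 0, 2, 0, 2, 0], by decide, by decide⟩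

theorem be3_mem {H : Subgroup (Matrix (Fin 6) (Fin 6) (ZMod 3))ˣ} (hg : g ∈ H) (hy : y ∈ H) : be3 ∈ H := by
  rw [show be3 = be2 * g from Units.ext (by decide)]
  exact mul_mem (be2_mem hg hy) hg

def be : (Matrix (Fin 6) (Fin 6) (ZMod 3))ˣ :=
  ⟨!![0, 2, 2, 1, 2, 0; 2, 2, 2, 2, 0, 0; 2, 2, 0, 1, 2, 0; 1, 2, 1, 2, 0, 0; 0, 0, 0, 0, 0, 1; 1, 0, 1, 0, 1, 0], !![2, 2, 1, 1, 0, 0; 2, 0, 2, 1, 0, 1; 1, 2, 2, 1, 0, 0; 1, 1, 1, 0, 0, 2; 0, 2, 0, 1, 0, 1; 0, 0, 0, 0, 1, 0], by decide, by decide⟩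

theorem be_mem {H : Subgroup (Matrix (Fin 6) (Fin 6) (ZMod 3))ˣ} (hg : g ∈ H) (hy : y ∈ H) : be ∈ H := by
  rw [show be = be3 * y⁻¹ from eq_mul_inv_of_mul_eq (Units.ext (by decide))]
  exact mul_mem (be3_mem hg hy) (inv_mem hy)

def ga : (Matrix (Fin 6) (Fin 6) (ZMod 3))ˣ :=
  ⟨!![1, 1, 2, 2, 0, 0; 0, 2, 2, 0, 0, 2; 1, 0, 2, 0, 0, 0; 2, 2, 0, 1, 0, 1; 1, 2, 2, 1, 0, 2; 0, 0, 0, 0, 2, 0], !![1, 0, 0, 2, 2, 0; 0, 2, 2, 1, 2, 0; 1, 0, 2, 2, 2, 0; 2, 2, 0, 1, 2, 0; 0, 0, 0, 0, 0, 2; 2, 0, 2, 0, 2, 0], by decide, by decide⟩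

theorem hga : al * be = ga := Units.ext (by decide)

def alp2 : (Matrix (Fin 6) (Fin 6) (ZMod 3))ˣ :=
  ⟨!![1, 1, 2, 0, 2, 1; 2, 1, 0, 1, 1, 0; 1, 2, 1, 1, 0, 2; 1, 0, 2, 1, 1, 2; 1, 2, 2, 0, 2, 2; 0, 1, 1, 1, 1, 2], !![1, 2, 2, 0, 0, 2; 1, 1, 0, 1, 2, 1; 0, 2, 1, 2, 2, 1; 1, 2, 1, 1, 2, 0; 2, 0, 1, 1, 2, 1; 1, 2, 0, 2, 2, 2], by decide, by decide⟩

def alp3 : (Matrix (Fin 6) (Fin 6) (ZMod 3))ˣ :=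
  ⟨!![1, 0, 2, 2, 0, 2; 1, 2, 1, 0, 2, 2; 0, 2, 1, 2, 2, 2; 1, 1, 0, 2, 0, 2; 1, 2, 1, 2, 2, 0; 1, 0, 0, 2, 2, 2], !![2, 1, 0, 2, 1, 1; 0, 1, 1, 1, 1, 0; 2, 2, 2, 0, 2, 0; 1, 0, 2, 1, 2, 2; 0, 2, 2, 0, 2, 2; 1, 2, 2, 1, 0, 2], by decide, by decide⟩

def alp4 : (Matrix (Fin 6) (Fin 6) (ZMod 3))ˣ :=
  ⟨!![1, 2, 0, 1, 2, 2; 0, 2, 2, 2, 2, 0; 1, 1, 1, 0, 1, 0; 2, 0, 1, 2, 1, 1; 0, 1, 1, 0, 1, 1; 2, 1, 1, 2, 0, 1], !![2, 0, 1, 1, 0, 1; 2, 1, 2, 0, 1, 1; 0, 1, 2, 1, 1, 1; 2, 2, 0, 1, 0, 1; 2, 1, 2, 1, 1, 0; 2, 0, 0, 1, 1, 1], by decide, by decide⟩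

def alp5 : (Matrix (Fin 6) (Fin 6) (ZMod 3))ˣ :=
  ⟨!![2, 1, 1, 0, 0, 1; 2, 2, 0, 2, 1, 2; 0, 1, 2, 1, 1, 2; 2, 1, 2, 2, 1, 0; 1, 0, 2, 2, 1, 2; 2, 1, 0, 1, 1, 1], !![2, 2, 1, 0, 1, 2; 1, 2, 0, 2, 2, 0; 2, 1, 2, 2, 0, 1; 2, 0, 1, 2, 2, 1; 2, 1, 1, 0, 1, 1; 0, 2, 2, 2, 2, 1], by decide, by decide⟩

def alp6 : (Matrix (Fin 6) (Fin 6) (ZMod 3))ˣ :=
  ⟨!![2, 0, 1, 2, 2, 2; 1, 1, 1, 0, 2, 0; 2, 0, 2, 2, 2, 2; 0, 1, 0, 1, 0, 0; 1, 0, 1, 0, 1, 0; 1, 0, 1, 2, 2, 1], !![1, 1, 0, 2, 0, 1; 0, 2, 1, 2, 1, 1; 2, 0, 1, 0, 0, 0; 0, 1, 2, 2, 2, 2; 0, 2, 2, 1, 1, 2; 0, 2, 0, 1, 0, 1], by decide, by decide⟩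

def alp7 : (Matrix (Fin 6) (Fin 6) (ZMod 3))ˣ :=
  ⟨!![2, 0, 0, 0, 0, 0; 0, 2, 0, 0, 0, 0; 0, 0, 2, 0, 0, 0; 0, 0, 0, 2, 0, 0; 0, 0, 0, 0, 2, 0; 0, 0, 0, 0, 0, 2], !![2, 0, 0, 0, 0, 0; 0, 2, 0, 0, 0, 0; 0, 0, 2, 0, 0, 0; 0, 0, 0, 2, 0, 0; 0, 0, 0, 0, 2, 0; 0, 0, 0, 0, 0, 2], by decide, by decide⟩

def alp8 : (Matrix (Fin 6) (Fin 6) (ZMod 3))ˣ :=
  ⟨!![1, 1, 0, 2, 0, 1; 0, 2, 1, 2, 1, 1; 2, 0, 1, 0, 0, 0; 0, 1, 2, 2, 2, 2; 0, 2, 2, 1, 1, 2; 0, 2, 0, 1, 0, 1], !![2, 0, 1, 2, 2, 2; 1, 1, 1, 0, 2, 0; 2, 0, 2, 2, 2, 2; 0, 1, 0, 1, 0, 0; 1, 0, 1, 0, 1, 0; 1, 0, 1, 2, 2, 1], by decide, by decide⟩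

def alp9 : (Matrix (Fin 6) (Fin 6) (ZMod 3))ˣ :=
  ⟨!![2, 2, 1, 0, 1, 2; 1, 2, 0, 2, 2, 0; 2, 1, 2, 2, 0, 1; 2, 0, 1, 2, 2, 1; 2, 1, 1, 0, 1, 1; 0, 2, 2, 2, 2, 1], !![2, 1, 1, 0, 0, 1; 2, 2, 0, 2, 1, 2; 0, 1, 2, 1, 1, 2; 2, 1, 2, 2, 1, 0; 1, 0, 2, 2, 1, 2; 2, 1, 0, 1, 1, 1], by decide, by decide⟩

def alp10 : (Matrix (Fin 6) (Fin 6) (ZMod 3))ˣ :=
  ⟨!![2, 0, 1, 1, 0, 1; 2, 1, 2, 0, 1, 1; 0, 1, 2, 1, 1, 1; 2, 2, 0, 1, 0, 1; 2, 1, 2, 1, 1, 0; 2, 0, 0, 1, 1, 1], !![1, 2, 0, 1, 2, 2; 0, 2, 2, 2, 2, 0; 1, 1, 1, 0, 1, 0; 2, 0, 1, 2, 1, 1; 0, 1, 1, 0, 1, 1; 2, 1, 1, 2, 0, 1], by decide, by decide⟩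

def alp11 : (Matrix (Fin 6) (Fin 6) (ZMod 3))ˣ :=
  ⟨!![2, 1, 0, 2, 1, 1; 0, 1, 1, 1, 1, 0; 2, 2, 2, 0, 2, 0; 1, 0, 2, 1, 2, 2; 0, 2, 2, 0, 2, 2; 1, 2, 2, 1, 0, 2], !![1, 0, 2, 2, 0, 2; 1, 2, 1, 0, 2, 2; 0, 2, 1, 2, 2, 2; 1, 1, 0, 2, 0, 2; 1, 2, 1, 2, 2, 0; 1, 0, 0, 2, 2, 2], by decide, by decide⟩

def alp12 : (Matrix (Fin 6) (Fin 6) (ZMod 3))ˣ :=
  ⟨!![1, 2, 2, 0, 0, 2; 1, 1, 0, 1, 2, 1; 0, 2, 1, 2, 2, 1; 1, 2, 1, 1, 2, 0; 2, 0, 1, 1, 2, 1; 1, 2, 0, 2, 2, 2], !![1, 1, 2, 0, 2, 1; 2, 1, 0, 1, 1, 0; 1, 2, 1, 1, 0, 2; 1, 0, 2, 1, 1, 2; 1, 2, 2, 0, 2, 2; 0, 1, 1, 1, 1, 2], by decide, by decide⟩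

def alp13 : (Matrix (Fin 6) (Fin 6) (ZMod 3))ˣ :=
  ⟨!![1, 0, 2, 1, 1, 1; 2, 2, 2, 0, 1, 0; 1, 0, 1, 1, 1, 1; 0, 2, 0, 2, 0, 0; 2, 0, 2, 0, 2, 0; 2, 0, 2, 1, 1, 2], !![2, 2, 0, 1, 0, 2; 0, 1, 2, 1, 2, 2; 1, 0, 2, 0, 0, 0; 0, 2, 1, 1, 1, 1; 0, 1, 1, 2, 2, 1; 0, 1, 0, 2, 0, 2], by decide, by decide⟩

theorem al_pow : al ^ 14 = 1 := by
  have h1 : al ^ 1 = al := pow_one _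
  have h2 : al ^ 2 = alp2 := by rw [pow_succ, h1]; exact Units.ext (by decide)
  have h3 : al ^ 3 = alp3 := by rw [pow_succ, h2]; exact Units.ext (by decide)
  have h4 : al ^ 4 = alp4 := by rw [pow_succ, h3]; exact Units.ext (by decide)
  have h5 : al ^ 5 = alp5 := by rw [pow_succ, h4]; exact Units.ext (by decide)
  have h6 : al ^ 6 = alp6 := by rw [pow_succ, h5]; exact Units.ext (by decide)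
  have h7 : al ^ 7 = alp7 := by rw [pow_succ, h6]; exact Units.ext (by decide)
  have h8 : al ^ 8 = alp8 := by rw [pow_succ, h7]; exact Units.ext (by decide)
  have h9 : al ^ 9 = alp9 := by rw [pow_succ, h8]; exact Units.ext (by decide)
  have h10 : al ^ 10 = alp10 := by rw [pow_succ, h9]; exact Units.ext (by decide)
  have h11 : al ^ 11 = alp11 := by rw [pow_succ, h10]; exact Units.ext (by decide)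
  have h12 : al ^ 12 = alp12 := by rw [pow_succ, h11]; exact Units.ext (by decide)
  have h13 : al ^ 13 = alp13 := by rw [pow_succ, h12]; exact Units.ext (by decide)
  rw [pow_succ, h13]
  exact Units.ext (by decide)

def bep2 : (Matrix (Fin 6) (Fin 6) (ZMod 3))ˣ :=
  ⟨!![0, 1, 2, 2, 1, 2; 1, 1, 1, 0, 2, 0; 2, 1, 0, 2, 1, 2; 2, 0, 2, 1, 1, 0; 1, 0, 1, 0, 1, 0; 2, 1, 2, 2, 1, 1], !![1, 1, 0, 2, 0, 1; 1, 0, 1, 1, 1, 2; 0, 1, 1, 2, 0, 1; 2, 1, 2, 0, 2, 1; 2, 1, 2, 2, 1, 1; 0, 2, 0, 1, 0, 1], by decide, by decide⟩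

def bep3 : (Matrix (Fin 6) (Fin 6) (ZMod 3))ˣ :=
  ⟨!![1, 1, 0, 2, 0, 1; 1, 0, 1, 1, 1, 2; 0, 1, 1, 2, 0, 1; 2, 1, 2, 0, 2, 1; 2, 1, 2, 2, 1, 1; 0, 2, 0, 1, 0, 1], !![0, 1, 2, 2, 1, 2; 1, 1, 1, 0, 2, 0; 2, 1, 0, 2, 1, 2; 2, 0, 2, 1, 1, 0; 1, 0, 1, 0, 1, 0; 2, 1, 2, 2, 1, 1], by decide, by decide⟩

def bep4 : (Matrix (Fin 6) (Fin 6) (ZMod 3))ˣ :=
  ⟨!![2, 2, 1, 1, 0, 0; 2, 0, 2, 1, 0, 1; 1, 2, 2, 1, 0, 0; 1, 1, 1, 0, 0, 2; 0, 2, 0, 1, 0, 1; 0, 0, 0, 0, 1, 0], !![0, 2, 2, 1, 2, 0; 2, 2, 2, 2, 0, 0; 2, 2, 0, 1, 2, 0; 1, 2, 1, 2, 0, 0; 0, 0, 0, 0, 0, 1; 1, 0, 1, 0, 1, 0], by decide, by decide⟩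

theorem be_pow : be ^ 5 = 1 := by
  have h1 : be ^ 1 = be := pow_one _
  have h2 : be ^ 2 = bep2 := by rw [pow_succ, h1]; exact Units.ext (by decide)
  have h3 : be ^ 3 = bep3 := by rw [pow_succ, h2]; exact Units.ext (by decide)
  have h4 : be ^ 4 = bep4 := by rw [pow_succ, h3]; exact Units.ext (by decide)
  rw [pow_succ, h4]
  exact Units.ext (by decide)

def gap2 : (Matrix (Fin 6) (Fin 6) (ZMod 3))ˣ :=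
  ⟨!![1, 1, 2, 1, 0, 1; 2, 1, 2, 0, 1, 1; 0, 1, 0, 2, 0, 0; 1, 2, 2, 2, 2, 2; 2, 1, 1, 0, 1, 2; 2, 1, 1, 2, 0, 1], !![2, 1, 0, 1, 0, 1; 1, 0, 2, 1, 1, 1; 1, 1, 1, 2, 1, 1; 1, 0, 1, 1, 1, 1; 1, 0, 1, 0, 1, 0; 1, 0, 1, 2, 2, 1], by decide, by decide⟩

def gap3 : (Matrix (Fin 6) (Fin 6) (ZMod 3))ˣ :=
  ⟨!![2, 2, 2, 0, 2, 0; 2, 0, 0, 2, 2, 1; 1, 0, 2, 2, 0, 1; 0, 1, 2, 0, 1, 1; 1, 0, 1, 2, 1, 1; 1, 2, 2, 0, 2, 1], !![0, 1, 1, 0, 1, 0; 1, 2, 0, 1, 1, 2; 2, 0, 0, 1, 0, 2; 0, 2, 1, 2, 2, 2; 2, 0, 2, 1, 1, 2; 2, 1, 1, 0, 1, 1], by decide, by decide⟩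

def gap4 : (Matrix (Fin 6) (Fin 6) (ZMod 3))ˣ :=
  ⟨!![0, 1, 1, 0, 0, 2; 2, 1, 2, 2, 2, 0; 1, 2, 0, 1, 2, 2; 0, 1, 2, 1, 2, 1; 1, 1, 0, 2, 2, 1; 2, 0, 2, 1, 2, 2], !![1, 2, 1, 0, 1, 2; 1, 0, 2, 2, 0, 2; 2, 2, 1, 2, 1, 0; 0, 2, 1, 0, 2, 1; 1, 2, 2, 0, 2, 2; 2, 2, 0, 1, 1, 2], by decide, by decide⟩

def gap5 : (Matrix (Fin 6) (Fin 6) (ZMod 3))ˣ :=
  ⟨!![1, 2, 1, 0, 1, 2; 1, 0, 2, 2, 0, 2; 2, 2, 1, 2, 1, 0; 0, 2, 1, 0, 2, 1; 1, 2, 2, 0, 2, 2; 2, 2, 0, 1, 1, 2], !![0, 1, 1, 0, 0, 2; 2, 1, 2, 2, 2, 0; 1, 2, 0, 1, 2, 2; 0, 1, 2, 1, 2, 1; 1, 1, 0, 2, 2, 1; 2, 0, 2, 1, 2, 2], by decide, by decide⟩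

def gap6 : (Matrix (Fin 6) (Fin 6) (ZMod 3))ˣ :=
  ⟨!![0, 1, 1, 0, 1, 0; 1, 2, 0, 1, 1, 2; 2, 0, 0, 1, 0, 2; 0, 2, 1, 2, 2, 2; 2, 0, 2, 1, 1, 2; 2, 1, 1, 0, 1, 1], !![2, 2, 2, 0, 2, 0; 2, 0, 0, 2, 2, 1; 1, 0, 2, 2, 0, 1; 0, 1, 2, 0, 1, 1; 1, 0, 1, 2, 1, 1; 1, 2, 2, 0, 2, 1], by decide, by decide⟩

def gap7 : (Matrix (Fin 6) (Fin 6) (ZMod 3))ˣ :=
  ⟨!![2, 1, 0, 1, 0, 1; 1, 0, 2, 1, 1, 1; 1, 1, 1, 2, 1, 1; 1, 0, 1, 1, 1, 1; 1, 0, 1, 0, 1, 0; 1, 0, 1, 2, 2, 1], !![1, 1, 2, 1, 0, 1; 2, 1, 2, 0, 1, 1; 0, 1, 0, 2, 0, 0; 1, 2, 2, 2, 2, 2; 2, 1, 1, 0, 1, 2; 2, 1, 1, 2, 0, 1], by decide, by decide⟩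

def gap8 : (Matrix (Fin 6) (Fin 6) (ZMod 3))ˣ :=
  ⟨!![1, 0, 0, 2, 2, 0; 0, 2, 2, 1, 2, 0; 1, 0, 2, 2, 2, 0; 2, 2, 0, 1, 2, 0; 0, 0, 0, 0, 0, 2; 2, 0, 2, 0, 2, 0], !![1, 1, 2, 2, 0, 0; 0, 2, 2, 0, 0, 2; 1, 0, 2, 0, 0, 0; 2, 2, 0, 1, 0, 1; 1, 2, 2, 1, 0, 2; 0, 0, 0, 0, 2, 0], by decide, by decide⟩

theorem ga_pow : ga ^ 9 = 1 := by
  have h1 : ga ^ 1 = ga := pow_one _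
  have h2 : ga ^ 2 = gap2 := by rw [pow_succ, h1]; exact Units.ext (by decide)
  have h3 : ga ^ 3 = gap3 := by rw [pow_succ, h2]; exact Units.ext (by decide)
  have h4 : ga ^ 4 = gap4 := by rw [pow_succ, h3]; exact Units.ext (by decide)
  have h5 : ga ^ 5 = gap5 := by rw [pow_succ, h4]; exact Units.ext (by decide)
  have h6 : ga ^ 6 = gap6 := by rw [pow_succ, h5]; exact Units.ext (by decide)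
  have h7 : ga ^ 7 = gap7 := by rw [pow_succ, h6]; exact Units.ext (by decide)
  have h8 : ga ^ 8 = gap8 := by rw [pow_succ, h7]; exact Units.ext (by decide)
  rw [pow_succ, h8]
  exact Units.ext (by decide)

theorem al_ne : al ≠ 1 := by
  intro h
  have h1 := congrArg Units.val h
  revert h1
  decide

/-- **not solvable** -/
theorem not_solvable : ¬ Group.IsSolvable (Subgroup.closure ({g, k * g * k⁻¹} : Set (Matrix (Fin 6) (Fin 6) (ZMod 3))ˣ)) := by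
  have hg : g ∈ Subgroup.closure ({g, k * g * k⁻¹} : Set (Matrix (Fin 6) (Fin 6) (ZMod 3))ˣ) := Subgroup.subset_closure (Or.inl rfl)
  have hy' : y ∈ Subgroup.closure ({g, k * g * k⁻¹} : Set (Matrix (Fin 6) (Fin 6) (ZMod 3))ˣ) := by
    rw [← hy]
    exact Subgroup.subset_closure (Or.inr rfl)
  exact not_solvable_of_orders (p := 14) (q := 5) (r := 9) (by decide) (by decide) (by decide) al_pow be_pow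
    (by rw [hga]; exact ga_pow) al_ne (al_mem hg hy') (be_mem hg hy')

theorem exists_k {F V : Type*} [Field F] [CharP F 3] [AddCommGroup V] [Module F V] {Q : QuadraticForm F V}
    {b : Fin 6 → V} {R : Submodule F V} {δ : F} (h : Fr Q b R δ G) :
    ∃ l ∈ E Q, (l, k) ∈ RelT b R := by
  exact h.exists_siegel ![2, 0, 2, 0, 0, 0] ![0, 0, 0, 0, 0, 2] (by decide) (by decide) k1 (by decide)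

theorem contra {F V : Type*} [Field F] [CharP F 3] [AddCommGroup V] [Module F V] {Q : QuadraticForm F V}
    {b : Fin 6 → V} {R : Submodule F V} {δ : F} (h : Fr Q b R δ G)
    {f : V ≃ₗ[F] V} (hh : (f, g) ∈ RelT b R)
    (hP : ∀ l ∈ E Q, Group.IsSolvable (Subgroup.closure {f, l * f * l⁻¹})) : False := by
  obtain ⟨l, hl, hlk⟩ := exists_k h
  exact not_solvable (solvable_of_frame (h.ind hG) hh hlk (hP l hl))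

end CG

/-! ### case CH -/

namespace CH

/-- Gram matrix -/
def G : Matrix (Fin 6) (Fin 6) (ZMod 3) := !![0, 0, 0, 0, 2, 0; 0, 0, 0, 1, 0, 0; 0, 0, 0, 0, 0, 1; 0, 1, 0, 0, 0, 0; 2, 0, 0, 0, 0, 0; 0, 0, 1, 0, 0, 0]

def G' : Matrix (Fin 6) (Fin 6) (ZMod 3) := !![0, 0, 0, 0, 2, 0; 0, 0, 0, 1, 0, 0; 0, 0, 0, 0, 0, 1; 0, 1, 0, 0, 0, 0; 2, 0, 0, 0, 0, 0; 0, 0, 1, 0, 0, 0]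

theorem hG : G * G' = 1 := by decide

/-- the isometry -/
def g : (Matrix (Fin 6) (Fin 6) (ZMod 3))ˣ :=
  ⟨!![1, 0, 0, 0, 0, 0; 1, 1, 0, 0, 0, 0; 0, 0, 1, 0, 0, 0; 0, 0, 0, 2, 0, 0; 0, 0, 0, 2, 2, 0; 0, 0, 0, 0, 0, 2], !![1, 0, 0, 0, 0, 0; 2, 1, 0, 0, 0, 0; 0, 0, 1, 0, 0, 0; 0, 0, 0, 2, 0, 0; 0, 0, 0, 1, 2, 0; 0, 0, 0, 0, 0, 2], by decide, by decide⟩

def k1 : (Matrix (Fin 6) (Fin 6) (ZMod 3))ˣ :=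
  ⟨!![1, 2, 2, 0, 2, 1; 0, 1, 0, 0, 0, 0; 0, 1, 1, 0, 1, 0; 0, 1, 1, 1, 1, 2; 0, 0, 0, 0, 1, 0; 0, 2, 0, 0, 2, 1], !![1, 2, 1, 0, 2, 2; 0, 1, 0, 0, 0, 0; 0, 2, 1, 0, 2, 0; 0, 1, 2, 1, 1, 1; 0, 0, 0, 0, 1, 0; 0, 1, 0, 0, 1, 1], by decide, by decide⟩

def k : (Matrix (Fin 6) (Fin 6) (ZMod 3))ˣ := k1

def y : (Matrix (Fin 6) (Fin 6) (ZMod 3))ˣ :=
  ⟨!![0, 0, 1, 1, 2, 0; 1, 0, 1, 0, 2, 2; 1, 1, 0, 2, 2, 1; 1, 1, 1, 1, 2, 1; 0, 2, 1, 2, 1, 2; 2, 0, 1, 1, 2, 1], !![2, 2, 2, 2, 1, 2; 2, 2, 2, 0, 1, 1; 2, 2, 2, 1, 0, 2; 2, 2, 0, 0, 0, 2; 0, 1, 2, 1, 0, 1; 1, 2, 2, 2, 1, 0], by decide, by decide⟩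

theorem hy : k * g * k⁻¹ = y := by
  rw [mul_inv_eq_iff_eq_mul]
  exact Units.ext (by decide)

def al1 : (Matrix (Fin 6) (Fin 6) (ZMod 3))ˣ :=
  ⟨!![1, 0, 0, 0, 0, 0; 1, 1, 0, 0, 0, 0; 0, 0, 1, 0, 0, 0; 0, 0, 0, 2, 0, 0; 0, 0, 0, 2, 2, 0; 0, 0, 0, 0, 0, 2], !![1, 0, 0, 0, 0, 0; 2, 1, 0, 0, 0, 0; 0, 0, 1, 0, 0, 0; 0, 0, 0, 2, 0, 0; 0, 0, 0, 1, 2, 0; 0, 0, 0, 0, 0, 2], by decide, by decide⟩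

theorem al1_mem {H : Subgroup (Matrix (Fin 6) (Fin 6) (ZMod 3))ˣ} (hg : g ∈ H) (hy : y ∈ H) : al1 ∈ H := by
  rw [show al1 = g from Units.ext (by decide)]
  exact hg

def al : (Matrix (Fin 6) (Fin 6) (ZMod 3))ˣ :=
  ⟨!![1, 0, 0, 0, 0, 0; 2, 1, 0, 0, 0, 0; 0, 0, 1, 0, 0, 0; 0, 0, 0, 1, 0, 0; 0, 0, 0, 2, 1, 0; 0, 0, 0, 0, 0, 1], !![1, 0, 0, 0, 0, 0; 1, 1, 0, 0, 0, 0; 0, 0, 1, 0, 0, 0; 0, 0, 0, 1, 0, 0; 0, 0, 0, 1, 1, 0; 0, 0, 0, 0, 0, 1], by decide, by decide⟩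

theorem al_mem {H : Subgroup (Matrix (Fin 6) (Fin 6) (ZMod 3))ˣ} (hg : g ∈ H) (hy : y ∈ H) : al ∈ H := by
  rw [show al = al1 * g from Units.ext (by decide)]
  exact mul_mem (al1_mem hg hy) hg

def be1 : (Matrix (Fin 6) (Fin 6) (ZMod 3))ˣ :=
  ⟨!![1, 0, 0, 0, 0, 0; 1, 1, 0, 0, 0, 0; 0, 0, 1, 0, 0, 0; 0, 0, 0, 2, 0, 0; 0, 0, 0, 2, 2, 0; 0, 0, 0, 0, 0, 2], !![1, 0, 0, 0, 0, 0; 2, 1, 0, 0, 0, 0; 0, 0, 1, 0, 0, 0; 0, 0, 0, 2, 0, 0; 0, 0, 0, 1, 2, 0; 0, 0, 0, 0, 0, 2], by decide, by decide⟩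

theorem be1_mem {H : Subgroup (Matrix (Fin 6) (Fin 6) (ZMod 3))ˣ} (hg : g ∈ H) (hy : y ∈ H) : be1 ∈ H := by
  rw [show be1 = g from Units.ext (by decide)]
  exact hg

def be : (Matrix (Fin 6) (Fin 6) (ZMod 3))ˣ :=
  ⟨!![0, 0, 1, 1, 2, 0; 1, 0, 2, 1, 1, 2; 1, 1, 0, 2, 2, 1; 2, 2, 2, 2, 1, 2; 2, 0, 1, 0, 0, 0; 1, 0, 2, 2, 1, 2], !![0, 2, 2, 2, 2, 1; 0, 2, 2, 1, 2, 2; 0, 2, 2, 2, 0, 1; 0, 2, 0, 0, 0, 1; 2, 1, 2, 2, 0, 2; 2, 2, 2, 2, 2, 0], by decide, by decide⟩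

theorem be_mem {H : Subgroup (Matrix (Fin 6) (Fin 6) (ZMod 3))ˣ} (hg : g ∈ H) (hy : y ∈ H) : be ∈ H := by
  rw [show be = be1 * y from Units.ext (by decide)]
  exact mul_mem (be1_mem hg hy) hy

def ga : (Matrix (Fin 6) (Fin 6) (ZMod 3))ˣ :=
  ⟨!![0, 0, 1, 1, 2, 0; 1, 0, 1, 0, 2, 2; 1, 1, 0, 2, 2, 1; 2, 2, 2, 2, 1, 2; 0, 1, 2, 1, 2, 1; 1, 0, 2, 2, 1, 2], !![2, 2, 2, 1, 2, 1; 2, 2, 2, 0, 2, 2; 2, 2, 2, 2, 0, 1; 2, 2, 0, 0, 0, 1; 0, 1, 2, 2, 0, 2; 1, 2, 2, 1, 2, 0], by decide, by decide⟩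

theorem hga : al * be = ga := Units.ext (by decide)

def alp2 : (Matrix (Fin 6) (Fin 6) (ZMod 3))ˣ :=
  ⟨!![1, 0, 0, 0, 0, 0; 1, 1, 0, 0, 0, 0; 0, 0, 1, 0, 0, 0; 0, 0, 0, 1, 0, 0; 0, 0, 0, 1, 1, 0; 0, 0, 0, 0, 0, 1], !![1, 0, 0, 0, 0, 0; 2, 1, 0, 0, 0, 0; 0, 0, 1, 0, 0, 0; 0, 0, 0, 1, 0, 0; 0, 0, 0, 2, 1, 0; 0, 0, 0, 0, 0, 1], by decide, by decide⟩

theorem al_pow : al ^ 3 = 1 := by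
  have h1 : al ^ 1 = al := pow_one _
  have h2 : al ^ 2 = alp2 := by rw [pow_succ, h1]; exact Units.ext (by decide)
  rw [pow_succ, h2]
  exact Units.ext (by decide)

def bep2 : (Matrix (Fin 6) (Fin 6) (ZMod 3))ˣ :=
  ⟨!![1, 0, 1, 1, 0, 0; 2, 1, 2, 2, 0, 2; 1, 1, 2, 2, 0, 2; 0, 0, 0, 1, 2, 2; 1, 1, 2, 1, 0, 1; 1, 0, 1, 1, 1, 1], !![0, 1, 2, 0, 0, 0; 2, 1, 1, 2, 2, 2; 2, 2, 1, 2, 0, 2; 2, 0, 0, 1, 0, 1; 1, 0, 2, 1, 1, 2; 1, 0, 1, 2, 2, 2], by decide, by decide⟩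

def bep3 : (Matrix (Fin 6) (Fin 6) (ZMod 3))ˣ :=
  ⟨!![0, 0, 0, 2, 2, 0; 0, 0, 0, 0, 1, 0; 0, 0, 2, 2, 2, 0; 2, 2, 2, 0, 0, 0; 0, 1, 1, 1, 0, 2; 0, 0, 0, 1, 0, 2], !![0, 0, 0, 2, 2, 1; 2, 0, 1, 0, 1, 2; 1, 0, 2, 0, 0, 0; 2, 2, 0, 0, 0, 0; 0, 1, 0, 0, 0, 0; 2, 2, 0, 0, 0, 2], by decide, by decide⟩

def bep4 : (Matrix (Fin 6) (Fin 6) (ZMod 3))ˣ :=
  ⟨!![2, 1, 0, 1, 2, 1; 2, 0, 1, 0, 0, 0; 1, 0, 0, 2, 0, 0; 1, 2, 0, 2, 1, 0; 0, 0, 2, 0, 0, 0; 1, 2, 0, 0, 0, 0], !![0, 2, 0, 0, 2, 0; 0, 2, 0, 0, 2, 2; 0, 0, 0, 0, 2, 0; 0, 2, 2, 0, 2, 0; 0, 2, 2, 1, 2, 2; 1, 0, 0, 1, 0, 0], by decide, by decide⟩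

def bep5 : (Matrix (Fin 6) (Fin 6) (ZMod 3))ˣ :=
  ⟨!![2, 2, 1, 1, 1, 0; 1, 1, 2, 1, 0, 1; 1, 1, 2, 2, 1, 1; 2, 1, 1, 1, 0, 2; 2, 2, 0, 1, 1, 2; 2, 0, 2, 0, 1, 1], !![1, 0, 2, 0, 1, 2; 2, 1, 0, 1, 2, 2; 1, 2, 1, 1, 0, 1; 1, 1, 0, 1, 1, 1; 2, 1, 1, 2, 2, 2; 0, 1, 2, 2, 2, 2], by decide, by decide⟩

def bep6 : (Matrix (Fin 6) (Fin 6) (ZMod 3))ˣ :=
  ⟨!![1, 0, 0, 2, 0, 1; 0, 1, 1, 1, 0, 2; 1, 0, 1, 0, 1, 1; 0, 0, 1, 2, 1, 0; 2, 2, 1, 1, 0, 1; 2, 2, 2, 2, 0, 1], !![0, 2, 0, 0, 0, 2; 2, 2, 2, 1, 1, 0; 2, 0, 1, 2, 2, 1; 1, 0, 2, 1, 0, 0; 2, 0, 1, 0, 1, 2; 2, 1, 2, 1, 0, 1], by decide, by decide⟩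

def bep7 : (Matrix (Fin 6) (Fin 6) (ZMod 3))ˣ :=
  ⟨!![2, 1, 1, 1, 2, 0; 0, 0, 2, 0, 0, 0; 1, 1, 1, 2, 2, 0; 1, 2, 2, 0, 1, 2; 0, 0, 1, 1, 1, 0; 0, 0, 0, 2, 1, 0], !![1, 2, 2, 0, 2, 1; 2, 0, 2, 0, 2, 2; 0, 2, 0, 0, 0, 0; 0, 2, 0, 0, 2, 1; 0, 2, 0, 0, 2, 2; 2, 2, 0, 2, 2, 1], by decide, by decide⟩

def bep8 : (Matrix (Fin 6) (Fin 6) (ZMod 3))ˣ :=
  ⟨!![2, 0, 2, 1, 2, 2; 2, 2, 0, 1, 1, 2; 1, 2, 0, 2, 1, 1; 2, 2, 1, 2, 1, 1; 2, 0, 0, 1, 0, 0; 0, 1, 2, 1, 2, 1], !![0, 2, 1, 2, 2, 2; 2, 2, 1, 1, 2, 2; 0, 1, 1, 2, 1, 1; 0, 2, 1, 2, 0, 2; 2, 1, 0, 1, 2, 2; 0, 1, 2, 0, 1, 0], by decide, by decide⟩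

def bep9 : (Matrix (Fin 6) (Fin 6) (ZMod 3))ˣ :=
  ⟨!![1, 1, 1, 0, 2, 2; 2, 2, 1, 1, 0, 1; 0, 1, 0, 0, 1, 1; 1, 2, 1, 0, 2, 2; 2, 2, 1, 1, 2, 2; 1, 1, 2, 0, 1, 2], !![2, 1, 2, 0, 2, 2; 2, 0, 0, 1, 0, 0; 1, 2, 2, 1, 1, 1; 1, 2, 1, 2, 2, 1; 2, 2, 2, 1, 1, 0; 2, 1, 2, 1, 2, 0], by decide, by decide⟩

def bep10 : (Matrix (Fin 6) (Fin 6) (ZMod 3))ˣ :=
  ⟨!![2, 1, 0, 2, 1, 1; 0, 0, 1, 1, 1, 0; 1, 0, 2, 0, 2, 1; 0, 1, 2, 0, 2, 0; 2, 0, 2, 0, 2, 2; 1, 2, 2, 1, 0, 2], !![2, 1, 0, 2, 1, 1; 0, 0, 1, 1, 1, 0; 1, 0, 2, 0, 2, 1; 0, 1, 2, 0, 2, 0; 2, 0, 2, 0, 2, 2; 1, 2, 2, 1, 0, 2], by decide, by decide⟩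

def bep11 : (Matrix (Fin 6) (Fin 6) (ZMod 3))ˣ :=
  ⟨!![2, 1, 2, 0, 2, 2; 2, 0, 0, 1, 0, 0; 1, 2, 2, 1, 1, 1; 1, 2, 1, 2, 2, 1; 2, 2, 2, 1, 1, 0; 2, 1, 2, 1, 2, 0], !![1, 1, 1, 0, 2, 2; 2, 2, 1, 1, 0, 1; 0, 1, 0, 0, 1, 1; 1, 2, 1, 0, 2, 2; 2, 2, 1, 1, 2, 2; 1, 1, 2, 0, 1, 2], by decide, by decide⟩

def bep12 : (Matrix (Fin 6) (Fin 6) (ZMod 3))ˣ :=
  ⟨!![0, 2, 1, 2, 2, 2; 2, 2, 1, 1, 2, 2; 0, 1, 1, 2, 1, 1; 0, 2, 1, 2, 0, 2; 2, 1, 0, 1, 2, 2; 0, 1, 2, 0, 1, 0], !![2, 0, 2, 1, 2, 2; 2, 2, 0, 1, 1, 2; 1, 2, 0, 2, 1, 1; 2, 2, 1, 2, 1, 1; 2, 0, 0, 1, 0, 0; 0, 1, 2, 1, 2, 1], by decide, by decide⟩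

def bep13 : (Matrix (Fin 6) (Fin 6) (ZMod 3))ˣ :=
  ⟨!![1, 2, 2, 0, 2, 1; 2, 0, 2, 0, 2, 2; 0, 2, 0, 0, 0, 0; 0, 2, 0, 0, 2, 1; 0, 2, 0, 0, 2, 2; 2, 2, 0, 2, 2, 1], !![2, 1, 1, 1, 2, 0; 0, 0, 2, 0, 0, 0; 1, 1, 1, 2, 2, 0; 1, 2, 2, 0, 1, 2; 0, 0, 1, 1, 1, 0; 0, 0, 0, 2, 1, 0], by decide, by decide⟩

def bep14 : (Matrix (Fin 6) (Fin 6) (ZMod 3))ˣ :=
  ⟨!![0, 2, 0, 0, 0, 2; 2, 2, 2, 1, 1, 0; 2, 0, 1, 2, 2, 1; 1, 0, 2, 1, 0, 0; 2, 0, 1, 0, 1, 2; 2, 1, 2, 1, 0, 1], !![1, 0, 0, 2, 0, 1; 0, 1, 1, 1, 0, 2; 1, 0, 1, 0, 1, 1; 0, 0, 1, 2, 1, 0; 2, 2, 1, 1, 0, 1; 2, 2, 2, 2, 0, 1], by decide, by decide⟩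

def bep15 : (Matrix (Fin 6) (Fin 6) (ZMod 3))ˣ :=
  ⟨!![1, 0, 2, 0, 1, 2; 2, 1, 0, 1, 2, 2; 1, 2, 1, 1, 0, 1; 1, 1, 0, 1, 1, 1; 2, 1, 1, 2, 2, 2; 0, 1, 2, 2, 2, 2], !![2, 2, 1, 1, 1, 0; 1, 1, 2, 1, 0, 1; 1, 1, 2, 2, 1, 1; 2, 1, 1, 1, 0, 2; 2, 2, 0, 1, 1, 2; 2, 0, 2, 0, 1, 1], by decide, by decide⟩

def bep16 : (Matrix (Fin 6) (Fin 6) (ZMod 3))ˣ :=
  ⟨!![0, 2, 0, 0, 2, 0; 0, 2, 0, 0, 2, 2; 0, 0, 0, 0, 2, 0; 0, 2, 2, 0, 2, 0; 0, 2, 2, 1, 2, 2; 1, 0, 0, 1, 0, 0], !![2, 1, 0, 1, 2, 1; 2, 0, 1, 0, 0, 0; 1, 0, 0, 2, 0, 0; 1, 2, 0, 2, 1, 0; 0, 0, 2, 0, 0, 0; 1, 2, 0, 0, 0, 0], by decide, by decide⟩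

def bep17 : (Matrix (Fin 6) (Fin 6) (ZMod 3))ˣ :=
  ⟨!![0, 0, 0, 2, 2, 1; 2, 0, 1, 0, 1, 2; 1, 0, 2, 0, 0, 0; 2, 2, 0, 0, 0, 0; 0, 1, 0, 0, 0, 0; 2, 2, 0, 0, 0, 2], !![0, 0, 0, 2, 2, 0; 0, 0, 0, 0, 1, 0; 0, 0, 2, 2, 2, 0; 2, 2, 2, 0, 0, 0; 0, 1, 1, 1, 0, 2; 0, 0, 0, 1, 0, 2], by decide, by decide⟩

def bep18 : (Matrix (Fin 6) (Fin 6) (ZMod 3))ˣ :=
  ⟨!![0, 1, 2, 0, 0, 0; 2, 1, 1, 2, 2, 2; 2, 2, 1, 2, 0, 2; 2, 0, 0, 1, 0, 1; 1, 0, 2, 1, 1, 2; 1, 0, 1, 2, 2, 2], !![1, 0, 1, 1, 0, 0; 2, 1, 2, 2, 0, 2; 1, 1, 2, 2, 0, 2; 0, 0, 0, 1, 2, 2; 1, 1, 2, 1, 0, 1; 1, 0, 1, 1, 1, 1], by decide, by decide⟩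

def bep19 : (Matrix (Fin 6) (Fin 6) (ZMod 3))ˣ :=
  ⟨!![0, 2, 2, 2, 2, 1; 0, 2, 2, 1, 2, 2; 0, 2, 2, 2, 0, 1; 0, 2, 0, 0, 0, 1; 2, 1, 2, 2, 0, 2; 2, 2, 2, 2, 2, 0], !![0, 0, 1, 1, 2, 0; 1, 0, 2, 1, 1, 2; 1, 1, 0, 2, 2, 1; 2, 2, 2, 2, 1, 2; 2, 0, 1, 0, 0, 0; 1, 0, 2, 2, 1, 2], by decide, by decide⟩

theorem be_pow : be ^ 20 = 1 := by
  have h1 : be ^ 1 = be := pow_one _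
  have h2 : be ^ 2 = bep2 := by rw [pow_succ, h1]; exact Units.ext (by decide)
  have h3 : be ^ 3 = bep3 := by rw [pow_succ, h2]; exact Units.ext (by decide)
  have h4 : be ^ 4 = bep4 := by rw [pow_succ, h3]; exact Units.ext (by decide)
  have h5 : be ^ 5 = bep5 := by rw [pow_succ, h4]; exact Units.ext (by decide)
  have h6 : be ^ 6 = bep6 := by rw [pow_succ, h5]; exact Units.ext (by decide)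
  have h7 : be ^ 7 = bep7 := by rw [pow_succ, h6]; exact Units.ext (by decide)
  have h8 : be ^ 8 = bep8 := by rw [pow_succ, h7]; exact Units.ext (by decide)
  have h9 : be ^ 9 = bep9 := by rw [pow_succ, h8]; exact Units.ext (by decide)
  have h10 : be ^ 10 = bep10 := by rw [pow_succ, h9]; exact Units.ext (by decide)
  have h11 : be ^ 11 = bep11 := by rw [pow_succ, h10]; exact Units.ext (by decide)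
  have h12 : be ^ 12 = bep12 := by rw [pow_succ, h11]; exact Units.ext (by decide)
  have h13 : be ^ 13 = bep13 := by rw [pow_succ, h12]; exact Units.ext (by decide)
  have h14 : be ^ 14 = bep14 := by rw [pow_succ, h13]; exact Units.ext (by decide)
  have h15 : be ^ 15 = bep15 := by rw [pow_succ, h14]; exact Units.ext (by decide)
  have h16 : be ^ 16 = bep16 := by rw [pow_succ, h15]; exact Units.ext (by decide)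
  have h17 : be ^ 17 = bep17 := by rw [pow_succ, h16]; exact Units.ext (by decide)
  have h18 : be ^ 18 = bep18 := by rw [pow_succ, h17]; exact Units.ext (by decide)
  have h19 : be ^ 19 = bep19 := by rw [pow_succ, h18]; exact Units.ext (by decide)
  rw [pow_succ, h19]
  exact Units.ext (by decide)

def gap2 : (Matrix (Fin 6) (Fin 6) (ZMod 3))ˣ :=
  ⟨!![0, 2, 0, 0, 1, 2; 0, 0, 0, 0, 1, 1; 0, 0, 0, 0, 2, 1; 1, 1, 2, 0, 0, 0; 0, 0, 0, 1, 0, 1; 2, 1, 2, 2, 0, 2], !![0, 0, 0, 2, 1, 1; 2, 0, 2, 0, 0, 0; 2, 0, 2, 1, 1, 1; 0, 1, 1, 0, 1, 0; 0, 2, 1, 0, 0, 0; 0, 2, 2, 0, 0, 0], by decide, by decide⟩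

def gap3 : (Matrix (Fin 6) (Fin 6) (ZMod 3))ˣ :=
  ⟨!![1, 1, 2, 2, 2, 0; 1, 1, 1, 0, 0, 0; 1, 2, 0, 1, 2, 1; 0, 2, 2, 2, 2, 1; 0, 2, 1, 1, 2, 1; 0, 0, 2, 2, 2, 0], !![2, 1, 1, 0, 2, 1; 2, 2, 2, 0, 1, 1; 2, 1, 0, 0, 0, 1; 1, 2, 0, 1, 2, 2; 0, 0, 0, 2, 1, 2; 2, 2, 2, 1, 1, 0], by decide, by decide⟩

def gap4 : (Matrix (Fin 6) (Fin 6) (ZMod 3))ˣ :=
  ⟨!![1, 2, 1, 2, 2, 1; 2, 1, 2, 0, 0, 0; 2, 1, 2, 1, 0, 1; 0, 2, 0, 0, 0, 2; 0, 2, 1, 2, 0, 2; 0, 2, 2, 1, 1, 2], !![0, 0, 2, 0, 2, 0; 1, 0, 1, 0, 1, 1; 1, 2, 2, 0, 2, 1; 1, 2, 2, 1, 1, 1; 0, 0, 0, 1, 1, 1; 2, 0, 2, 2, 2, 2], by decide, by decide⟩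

def gap5 : (Matrix (Fin 6) (Fin 6) (ZMod 3))ˣ :=
  ⟨!![2, 1, 1, 2, 0, 1; 0, 2, 0, 0, 1, 1; 0, 1, 1, 1, 0, 2; 1, 0, 0, 1, 0, 2; 0, 2, 1, 1, 1, 1; 2, 2, 1, 2, 1, 1], !![1, 0, 2, 2, 0, 0; 2, 1, 2, 0, 1, 1; 2, 2, 1, 1, 2, 2; 1, 0, 2, 2, 2, 1; 0, 2, 1, 0, 2, 0; 2, 0, 1, 0, 2, 1], by decide, by decide⟩

def gap6 : (Matrix (Fin 6) (Fin 6) (ZMod 3))ˣ :=
  ⟨!![1, 2, 0, 1, 2, 0; 0, 1, 0, 0, 1, 1; 0, 0, 1, 2, 1, 0; 1, 2, 1, 1, 2, 0; 0, 1, 2, 1, 1, 1; 2, 0, 0, 2, 0, 0], !![1, 1, 0, 2, 2, 2; 2, 1, 2, 0, 2, 2; 2, 0, 0, 1, 0, 0; 2, 2, 0, 1, 1, 0; 0, 2, 1, 0, 1, 0; 1, 1, 0, 0, 0, 1], by decide, by decide⟩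

def gap7 : (Matrix (Fin 6) (Fin 6) (ZMod 3))ˣ :=
  ⟨!![1, 1, 0, 2, 2, 2; 2, 1, 2, 0, 2, 2; 2, 0, 0, 1, 0, 0; 2, 2, 0, 1, 1, 0; 0, 2, 1, 0, 1, 0; 1, 1, 0, 0, 0, 1], !![1, 2, 0, 1, 2, 0; 0, 1, 0, 0, 1, 1; 0, 0, 1, 2, 1, 0; 1, 2, 1, 1, 2, 0; 0, 1, 2, 1, 1, 1; 2, 0, 0, 2, 0, 0], by decide, by decide⟩

def gap8 : (Matrix (Fin 6) (Fin 6) (ZMod 3))ˣ :=
  ⟨!![1, 0, 2, 2, 0, 0; 2, 1, 2, 0, 1, 1; 2, 2, 1, 1, 2, 2; 1, 0, 2, 2, 2, 1; 0, 2, 1, 0, 2, 0; 2, 0, 1, 0, 2, 1], !![2, 1, 1, 2, 0, 1; 0, 2, 0, 0, 1, 1; 0, 1, 1, 1, 0, 2; 1, 0, 0, 1, 0, 2; 0, 2, 1, 1, 1, 1; 2, 2, 1, 2, 1, 1], by decide, by decide⟩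

def gap9 : (Matrix (Fin 6) (Fin 6) (ZMod 3))ˣ :=
  ⟨!![0, 0, 2, 0, 2, 0; 1, 0, 1, 0, 1, 1; 1, 2, 2, 0, 2, 1; 1, 2, 2, 1, 1, 1; 0, 0, 0, 1, 1, 1; 2, 0, 2, 2, 2, 2], !![1, 2, 1, 2, 2, 1; 2, 1, 2, 0, 0, 0; 2, 1, 2, 1, 0, 1; 0, 2, 0, 0, 0, 2; 0, 2, 1, 2, 0, 2; 0, 2, 2, 1, 1, 2], by decide, by decide⟩

def gap10 : (Matrix (Fin 6) (Fin 6) (ZMod 3))ˣ :=
  ⟨!![2, 1, 1, 0, 2, 1; 2, 2, 2, 0, 1, 1; 2, 1, 0, 0, 0, 1; 1, 2, 0, 1, 2, 2; 0, 0, 0, 2, 1, 2; 2, 2, 2, 1, 1, 0], !![1, 1, 2, 2, 2, 0; 1, 1, 1, 0, 0, 0; 1, 2, 0, 1, 2, 1; 0, 2, 2, 2, 2, 1; 0, 2, 1, 1, 2, 1; 0, 0, 2, 2, 2, 0], by decide, by decide⟩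

def gap11 : (Matrix (Fin 6) (Fin 6) (ZMod 3))ˣ :=
  ⟨!![0, 0, 0, 2, 1, 1; 2, 0, 2, 0, 0, 0; 2, 0, 2, 1, 1, 1; 0, 1, 1, 0, 1, 0; 0, 2, 1, 0, 0, 0; 0, 2, 2, 0, 0, 0], !![0, 2, 0, 0, 1, 2; 0, 0, 0, 0, 1, 1; 0, 0, 0, 0, 2, 1; 1, 1, 2, 0, 0, 0; 0, 0, 0, 1, 0, 1; 2, 1, 2, 2, 0, 2], by decide, by decide⟩

def gap12 : (Matrix (Fin 6) (Fin 6) (ZMod 3))ˣ :=
  ⟨!![2, 2, 2, 1, 2, 1; 2, 2, 2, 0, 2, 2; 2, 2, 2, 2, 0, 1; 2, 2, 0, 0, 0, 1; 0, 1, 2, 2, 0, 2; 1, 2, 2, 1, 2, 0], !![0, 0, 1, 1, 2, 0; 1, 0, 1, 0, 2, 2; 1, 1, 0, 2, 2, 1; 2, 2, 2, 2, 1, 2; 0, 1, 2, 1, 2, 1; 1, 0, 2, 2, 1, 2], by decide, by decide⟩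

theorem ga_pow : ga ^ 13 = 1 := by
  have h1 : ga ^ 1 = ga := pow_one _
  have h2 : ga ^ 2 = gap2 := by rw [pow_succ, h1]; exact Units.ext (by decide)
  have h3 : ga ^ 3 = gap3 := by rw [pow_succ, h2]; exact Units.ext (by decide)
  have h4 : ga ^ 4 = gap4 := by rw [pow_succ, h3]; exact Units.ext (by decide)
  have h5 : ga ^ 5 = gap5 := by rw [pow_succ, h4]; exact Units.ext (by decide)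
  have h6 : ga ^ 6 = gap6 := by rw [pow_succ, h5]; exact Units.ext (by decide)
  have h7 : ga ^ 7 = gap7 := by rw [pow_succ, h6]; exact Units.ext (by decide)
  have h8 : ga ^ 8 = gap8 := by rw [pow_succ, h7]; exact Units.ext (by decide)
  have h9 : ga ^ 9 = gap9 := by rw [pow_succ, h8]; exact Units.ext (by decide)
  have h10 : ga ^ 10 = gap10 := by rw [pow_succ, h9]; exact Units.ext (by decide)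
  have h11 : ga ^ 11 = gap11 := by rw [pow_succ, h10]; exact Units.ext (by decide)
  have h12 : ga ^ 12 = gap12 := by rw [pow_succ, h11]; exact Units.ext (by decide)
  rw [pow_succ, h12]
  exact Units.ext (by decide)

theorem al_ne : al ≠ 1 := by
  intro h
  have h1 := congrArg Units.val h
  revert h1
  decide

/-- **not solvable** -/
theorem not_solvable : ¬ Group.IsSolvable (Subgroup.closure ({g, k * g * k⁻¹} : Set (Matrix (Fin 6) (Fin 6) (ZMod 3))ˣ)) := by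
  have hg : g ∈ Subgroup.closure ({g, k * g * k⁻¹} : Set (Matrix (Fin 6) (Fin 6) (ZMod 3))ˣ) := Subgroup.subset_closure (Or.inl rfl)
  have hy' : y ∈ Subgroup.closure ({g, k * g * k⁻¹} : Set (Matrix (Fin 6) (Fin 6) (ZMod 3))ˣ) := by
    rw [← hy]
    exact Subgroup.subset_closure (Or.inr rfl)
  exact not_solvable_of_orders (p := 3) (q := 20) (r := 13) (by decide) (by decide) (by decide) al_pow be_pow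
    (by rw [hga]; exact ga_pow) al_ne (al_mem hg hy') (be_mem hg hy')

theorem exists_k {F V : Type*} [Field F] [CharP F 3] [AddCommGroup V] [Module F V] {Q : QuadraticForm F V}
    {b : Fin 6 → V} {R : Submodule F V} {δ : F} (h : Fr Q b R δ G) :
    ∃ l ∈ E Q, (l, k) ∈ RelT b R := by
  exact h.exists_siegel ![1, 0, 0, 2, 0, 0] ![0, 0, 2, 0, 0, 1] (by decide) (by decide) k1 (by decide)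

theorem contra {F V : Type*} [Field F] [CharP F 3] [AddCommGroup V] [Module F V] {Q : QuadraticForm F V}
    {b : Fin 6 → V} {R : Submodule F V} {δ : F} (h : Fr Q b R δ G)
    {f : V ≃ₗ[F] V} (hh : (f, g) ∈ RelT b R)
    (hP : ∀ l ∈ E Q, Group.IsSolvable (Subgroup.closure {f, l * f * l⁻¹})) : False := by
  obtain ⟨l, hl, hlk⟩ := exists_k h
  exact not_solvable (solvable_of_frame (h.ind hG) hh hlk (hP l hl))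

end CH

end Cfsg.Agent.H234.SN
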